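import Cfsg.Agent.Lib.Helper2.StA11

set_option autoImplicit false

/-! Central extensions of `SL_n(K)` split (Steinberg / Kervaire–Milnor, type `A_{n-1}`): the boundary
definitions shared by the pieces of the proof of S2086 (Schur multiplier of `PSL_n(q)`).

* `T i j t` : the root element `1 + t E_ij` of `SL_n(K)` (`1` when `i = j`).
* `CommLift ψ` : lifts (along the central extension `ψ : E →* SL_n(K)`) of commuting root elements
  commute.
* `CommLiftShare ψ` : the same for the commuting pairs `(i,j)`, `(k,l)` with `i = k` or `j = l`.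
* `Bal ψ` : the commutator of lifts of `x_ij(t)`, `x_jl(u)` equals that of lifts of `x_ih(1)`,
  `x_hl(tu)`.
-/

namespace Cfsg.Agent.Lib.Helper25.SLCC

open Matrix
open scoped commutatorElement

variable {n : ℕ} {K : Type*} [Field K] {E : Type*} [Group E]

/-- the root element `x_ij(t) = 1 + t E_ij` of `SL_n(K)`; equal to `1` when `i = j` -/
noncomputable def T (i j : Fin n) (t : K) : SpecialLinearGroup (Fin n) K :=
  if h : i ≠ j then SpecialLinearGroup.transvection h t else 1

theorem T_of {i j : Fin n} (h : i ≠ j) (t : K) :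
    T i j t = SpecialLinearGroup.transvection h t := by
  simp [T, h]

theorem T_coe {i j : Fin n} (h : i ≠ j) (t : K) :
    ((T i j t : SpecialLinearGroup (Fin n) K) : Matrix (Fin n) (Fin n) K) = 1 + Matrix.single i j t := by
  rw [T_of h]; rfl

theorem T_add {i j : Fin n} (h : i ≠ j) (t u : K) : T i j t * T i j u = T i j (t + u) := by
  rw [T_of h, T_of h, T_of h, SpecialLinearGroup.transvection_add]

theorem T_zero {i j : Fin n} (h : i ≠ j) : T i j (0 : K) = 1 := by
  have := T_add h (0 : K) 0
  rw [add_zero] at this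
  exact mul_eq_left.mp this

theorem T_inv {i j : Fin n} (h : i ≠ j) (t : K) : (T i j t)⁻¹ = T i j (-t) := by
  apply inv_eq_of_mul_eq_one_right
  rw [T_add h, add_neg_cancel, T_zero h]

theorem T_comm {i j k l : Fin n} (hij : i ≠ j) (hkl : k ≠ l) (hil : i ≠ l) (hjk : j ≠ k) (t u : K) :
    T i j t * T k l u = T k l u * T i j t := by
  rw [T_of hij, T_of hkl]
  exact Cfsg.Agent.Lib.Helper2.StA.tv_comm hij hkl hil hjk t u

theorem T_comm3 {i j l : Fin n} (hij : i ≠ j) (hjl : j ≠ l) (hil : i ≠ l) (t u : K) :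
    ⁅T i j t, T j l u⁆ = T i l (t * u) := by
  rw [T_of hij, T_of hjl, T_of hil, commutatorElement_def]
  exact Cfsg.Agent.Lib.Helper2.StA.tv_comm3 hij hjl hil t u

/-- lifts of commuting root elements commute -/
def CommLift (ψ : E →* SpecialLinearGroup (Fin n) K) : Prop :=
  ∀ i j k l : Fin n, i ≠ j → k ≠ l → i ≠ l → j ≠ k → ∀ (t u : K) (A B : E),
    ψ A = T i j t → ψ B = T k l u → A * B = B * A

/-- lifts of commuting root elements in the same row or the same column (or equal) commute -/
def CommLiftShare (ψ : E →* SpecialLinearGroup (Fin n) K) : Prop :=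
  ∀ i j k l : Fin n, i ≠ j → k ≠ l → i ≠ l → j ≠ k → (i = k ∨ j = l) → ∀ (t u : K) (A B : E),
    ψ A = T i j t → ψ B = T k l u → A * B = B * A

/-- the commutator of lifts of `x_ij(t)`, `x_jl(u)` is the commutator of lifts of `x_ih(1)`,
`x_hl(tu)` -/
def Bal (ψ : E →* SpecialLinearGroup (Fin n) K) : Prop :=
  ∀ i j h l : Fin n, i ≠ j → j ≠ l → i ≠ l → i ≠ h → h ≠ l → ∀ (t u : K) (A B A' B' : E),
    ψ A = T i j t → ψ B = T j l u → ψ A' = T i h 1 → ψ B' = T h l (t * u) → ⁅A, B⁆ = ⁅A', B'⁆

end Cfsg.Agent.Lib.Helper25.SLCC
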