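import Cfsg.Agent.Lib.Helper25.SLCC.Defs
import Cfsg.Agent.S2401

set_option autoImplicit false

namespace Cfsg.Agent.Lib.Helper25.SLCC

open Matrix Cfsg.Agent.Lib.Helper2.StA
open scoped commutatorElement

variable {n : ℕ} {K : Type*} [Field K] {E : Type*} [Group E]

/-- [A0] the Steinberg presentation (S2401): lifts satisfying Steinberg's relations give a section -/
theorem exists_section_of_lifts [Finite K] (hn : 3 ≤ n) (ψ : E →* SpecialLinearGroup (Fin n) K)
    (y : Fin n → Fin n → K → E)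
    (hy : ∀ i j : Fin n, i ≠ j → ∀ t : K, ψ (y i j t) = T i j t)
    (hadd : ∀ i j : Fin n, i ≠ j → ∀ t u : K, y i j t * y i j u = y i j (t + u))
    (hcomm : ∀ i j k l : Fin n, i ≠ j → k ≠ l → i ≠ l → j ≠ k → ∀ t u : K,
      y i j t * y k l u = y k l u * y i j t)
    (hcomm3 : ∀ i j l : Fin n, i ≠ j → j ≠ l → i ≠ l → ∀ t u : K,
      ⁅y i j t, y j l u⁆ = y i l (t * u)) :
    ∃ τ : SpecialLinearGroup (Fin n) K →* E, ψ.comp τ = MonoidHom.id _ := by
  classical
  obtain ⟨e, he⟩ := Cfsg.Agent.S2401.result (K := K) n hn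
  change StGrp n K ≃* SpecialLinearGroup (Fin n) K at e
  let f : Idx n × K → E := fun p => y p.1.1.1 p.1.1.2 p.2
  have hf : ∀ r ∈ stRels n K, FreeGroup.lift f r = 1 := by
    intro r hr
    rcases hr with (⟨a, t, u, rfl⟩ | ⟨a, b, t, u, h1, h2, rfl⟩) | ⟨a, b, h, t, u, hab, rfl⟩
    · simp only [map_mul, map_inv, FreeGroup.lift_apply_of, f]
      rw [hadd _ _ a.2, mul_inv_cancel]
    · simp only [map_mul, map_inv, FreeGroup.lift_apply_of, f]
      rw [hcomm _ _ _ _ a.2 b.2 h1 h2]; group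
    · simp only [map_mul, map_inv, FreeGroup.lift_apply_of, f]
      obtain ⟨⟨i, j⟩, hij⟩ := a
      obtain ⟨⟨k, l⟩, hkl⟩ := b
      simp only at hab h hij hkl
      subst hab
      have := hcomm3 i j l hij hkl h t u
      rw [commutatorElement_def] at this
      simp only
      rw [this, mul_inv_cancel]
  let σ : StGrp n K →* E := PresentedGroup.toGroup hf
  refine ⟨σ.comp e.symm.toMonoidHom, ?_⟩
  have key : ψ.comp σ = e.toMonoidHom := by
    apply PresentedGroup.ext
    rintro ⟨⟨⟨i, j⟩, hij⟩, t⟩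
    show ψ (σ (PresentedGroup.of (⟨⟨(i, j), hij⟩, t⟩ : Idx n × K))) = e (PresentedGroup.of _)
    have h1 : σ (PresentedGroup.of (⟨⟨(i, j), hij⟩, t⟩ : Idx n × K)) = y i j t :=
      PresentedGroup.toGroup.of hf
    rw [h1, hy i j hij, T_of hij]
    apply Subtype.ext
    exact (he ⟨(i, j), hij⟩ t).symm
  ext1 g
  show ψ (σ (e.symm g)) = g
  have := congrArg (fun φ => φ (e.symm g)) key
  simp only [MonoidHom.comp_apply] at this
  rw [this]
  exact e.apply_symm_apply g

end Cfsg.Agent.Lib.Helper25.SLCC
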