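import Cfsg.Agent.Lib.Helper25.SLCC.Defs
import Cfsg.Agent.Lib.Helper25.SLCC.A0
import Cfsg.Agent.Lib.Helper6.SLCCA1
import Cfsg.Agent.Lib.Helper11.SLCCA2
import Cfsg.Agent.Lib.Helper6.SLCCA3
import Cfsg.Agent.Lib.Helper21.SLCCA5
import Cfsg.Agent.Lib.Helper11.SLCCA6
import Cfsg.Agent.Lib.Helper9.SLCCA8
import Cfsg.Agent.Lib.Helper21.SLCCA10

set_option autoImplicit false

/-! Central extensions of `SL_n(K)` split (`n ≥ 5`; `n = 4`, `|K| ≥ 3`; `n = 3`, `|K| ≠ 2, 4`):
assembly of the farmed pieces [A0]-[A10] of the S2086 farm (skeleton: notes/S2086_Skel_helper25.lean.txt). -/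

namespace Cfsg.Agent.Lib.Helper25.SLCC

open Matrix
open scoped commutatorElement

variable {n : ℕ} {K : Type*} [Field K] {E : Type*} [Group E]

/-! ### assembly (helper25) -/

theorem exists_ne_three (hn : 4 ≤ n) (a b c : Fin n) : ∃ h : Fin n, h ≠ a ∧ h ≠ b ∧ h ≠ c := by
  classical
  have hcard : ({a, b, c} : Finset (Fin n)).card < (Finset.univ : Finset (Fin n)).card := by
    rw [Finset.card_univ, Fintype.card_fin]
    calc ({a, b, c} : Finset (Fin n)).card ≤ 3 := Finset.card_le_three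
      _ < n := by omega
  obtain ⟨h, -, hh⟩ := Finset.exists_mem_notMem_of_card_lt_card hcard
  simp only [Finset.mem_insert, Finset.mem_singleton, not_or] at hh
  exact ⟨h, hh.1, hh.2.1, hh.2.2⟩

theorem exists_ne_four (hn : 5 ≤ n) (a b c d : Fin n) :
    ∃ h : Fin n, h ≠ a ∧ h ≠ b ∧ h ≠ c ∧ h ≠ d := by
  classical
  have hcard : ({a, b, c, d} : Finset (Fin n)).card < (Finset.univ : Finset (Fin n)).card := by
    rw [Finset.card_univ, Fintype.card_fin]
    calc ({a, b, c, d} : Finset (Fin n)).card ≤ 4 := Finset.card_le_four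
      _ < n := by omega
  obtain ⟨h, -, hh⟩ := Finset.exists_mem_notMem_of_card_lt_card hcard
  simp only [Finset.mem_insert, Finset.mem_singleton, not_or] at hh
  exact ⟨h, hh.1, hh.2.1, hh.2.2.1, hh.2.2.2⟩

/-- [A4] `CommLift` for `n ≥ 5` -/
theorem commLift_five (hn : 5 ≤ n) (ψ : E →* SpecialLinearGroup (Fin n) K)
    (hψ : Function.Surjective ψ) (hc : ψ.ker ≤ Subgroup.center E) : CommLift ψ := by
  intro i j k l hij hkl hil hjk t u A B hA hB
  obtain ⟨h, hhi, hhj, hhk, hhl⟩ := exists_ne_four hn i j k l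
  exact lifts_commute_of_spare ψ hψ hc hij hkl hil hjk hhi hhj hhk hhl t u A B hA hB

/-- index-sharing commuting pairs, `n ≥ 4` -/
theorem commLiftShare_four (hn : 4 ≤ n) (ψ : E →* SpecialLinearGroup (Fin n) K)
    (hψ : Function.Surjective ψ) (hc : ψ.ker ≤ Subgroup.center E) : CommLiftShare ψ := by
  intro i j k l hij hkl hil hjk hsh t u A B hA hB
  rcases hsh with rfl | rfl
  · obtain ⟨h, hhi, hhj, hhl⟩ := exists_ne_three hn i j l
    exact lifts_commute_of_spare ψ hψ hc hij hkl hil hjk hhi hhj hhi hhl t u A B hA hB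
  · obtain ⟨h, hhi, hhj, hhk⟩ := exists_ne_three hn i j k
    exact lifts_commute_of_spare ψ hψ hc hij hkl hil hjk hhi hhj hhk hhj t u A B hA hB

/-- a field in which every nonzero element squares to `1` and which has an element `≠ 0, 1` is `F_3` -/
theorem field_three (hK : ∃ a : K, a ≠ 0 ∧ a ≠ 1) (hsq : ∀ v : K, v ≠ 0 → v ^ 2 = 1) :
    (∀ a : K, a = 0 ∨ a = 1 ∨ a = -1) ∧ (3 : K) = 0 := by
  have hall : ∀ a : K, a = 0 ∨ a = 1 ∨ a = -1 := by
    intro a
    by_cases ha : a = 0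
    · exact Or.inl ha
    · right
      have h1 := hsq a ha
      have h2 : (a - 1) * (a + 1) = 0 := by ring_nf; rw [h1]; ring
      rcases mul_eq_zero.mp h2 with h | h
      · exact Or.inl (sub_eq_zero.mp h)
      · exact Or.inr (eq_neg_of_add_eq_zero_left h)
  refine ⟨hall, ?_⟩
  obtain ⟨a, ha0, ha1⟩ := hK
  have ham : a = -1 := by
    rcases hall a with h | h | h
    · exact absurd h ha0
    · exact absurd h ha1
    · exact h
  have h11 : (1 : K) ≠ -1 := fun h => ha1 (ham.trans h.symm)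
  rcases hall (1 + 1) with h | h | h
  · exact absurd (eq_neg_of_add_eq_zero_left h) h11
  · have : (1 : K) = 0 := by linear_combination h
    exact absurd this one_ne_zero
  · linear_combination h

/-- [A7] `CommLift` for `n ≥ 4` when `|K| ≥ 3` -/
theorem commLift_four (hn : 4 ≤ n) (ψ : E →* SpecialLinearGroup (Fin n) K)
    (hψ : Function.Surjective ψ) (hc : ψ.ker ≤ Subgroup.center E)
    (hK : ∃ a : K, a ≠ 0 ∧ a ≠ 1) : CommLift ψ := by
  have hsh := commLiftShare_four hn ψ hψ hc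
  intro i j k l hij hkl hil hjk t u A B hA hB
  by_cases hik : i = k
  · exact hsh i j k l hij hkl hil hjk (Or.inl hik) t u A B hA hB
  by_cases hjl : j = l
  · exact hsh i j k l hij hkl hil hjk (Or.inr hjl) t u A B hA hB
  by_cases hv : ∃ v : K, v ≠ 0 ∧ v ^ 2 ≠ 1
  · obtain ⟨v, hv0, hv2⟩ := hv
    obtain ⟨D, hD1, hD2⟩ := exists_diag_two (n := n) hkl hv0
    exact lifts_commute_of_torus ψ hψ hc hij hkl hil hjk D (v ^ 2) hv2
      (fun t => hD1 i j hij hik hil hjk hjl t) hD2 t u A B hA hB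
  · have hsq : ∀ v : K, v ≠ 0 → v ^ 2 = 1 := by
      intro v hv0
      by_contra h
      exact hv ⟨v, hv0, h⟩
    obtain ⟨hall, h3⟩ := field_three hK hsq
    exact lifts_commute_orth_F3 ψ hψ hc hall h3 hsh hij hkl hil hjk hik hjl t u A B hA hB

/-- in `Fin 3` four pairwise distinct indices do not exist -/
theorem fin3_absurd {i j k l : Fin 3} (hij : i ≠ j) (hkl : k ≠ l) (hil : i ≠ l) (hjk : j ≠ k)
    (hik : i ≠ k) (hjl : j ≠ l) : False := by
  omega

/-- in `Fin 3` an index different from two distinct indices is the third one -/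
theorem fin3_third {i j h l : Fin 3} (hij : i ≠ j) (hjl : j ≠ l) (hil : i ≠ l) (hih : i ≠ h)
    (hhl : h ≠ l) : h = j := by
  omega

theorem fin3_exists_third (i j : Fin 3) : ∃ h : Fin 3, h ≠ i ∧ h ≠ j := by
  revert i j; decide

/-- [A9] `CommLift` for `n = 3` when some `a ≠ 0` has `a³ ≠ 1` (i.e. `|K| ≠ 2, 4`) -/
theorem commLift_three (ψ : E →* SpecialLinearGroup (Fin 3) K) (hψ : Function.Surjective ψ)
    (hc : ψ.ker ≤ Subgroup.center E) (ha : ∃ a : K, a ≠ 0 ∧ a ^ 3 ≠ 1) : CommLift ψ := by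
  obtain ⟨a, ha0, ha3⟩ := ha
  have ha3' : (a ^ 3)⁻¹ ≠ 1 := fun h => ha3 (inv_eq_one.mp h)
  intro i j k l hij hkl hil hjk t u A B hA hB
  by_cases hik : i = k
  · subst hik
    by_cases hjl : j = l
    · subst hjl
      obtain ⟨h, hhi, hhj⟩ := fin3_exists_third i j
      exact lifts_commute_of_spare ψ hψ hc hij hkl hil hjk hhi hhj hhi hhj t u A B hA hB
    · obtain ⟨D, h1, -, h3, -, -, -⟩ := exists_diag_three (n := 3) hij hjl hil ha0
      exact lifts_commute_of_torus ψ hψ hc hij hkl hil hjk D (a ^ 3) ha3 h1 h3 t u A B hA hB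
  · by_cases hjl : j = l
    · subst hjl
      obtain ⟨D, h1, -, -, -, -, h6⟩ := exists_diag_three (n := 3) hij hjk hik ha0
      exact lifts_commute_of_torus ψ hψ hc hij hkl hil hjk D ((a ^ 3)⁻¹) ha3' h1 h6 t u A B hA hB
    · exact (fin3_absurd hij hkl hil hjk hik hjl).elim

/-- `Bal` for `n = 3` -/
theorem bal_three (ψ : E →* SpecialLinearGroup (Fin 3) K) (hψ : Function.Surjective ψ)
    (hc : ψ.ker ≤ Subgroup.center E) (ha : ∃ a : K, a ≠ 0 ∧ a ^ 3 ≠ 1) (hCL : CommLift ψ) :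
    Bal ψ := by
  obtain ⟨a, ha0, ha3⟩ := ha
  intro i j h l hij hjl hil hih hhl t u A B A' B' hA hB hA' hB'
  obtain rfl := fin3_third hij hjl hil hih hhl
  obtain ⟨D, h1, -, -, h4, -, -⟩ := exists_diag_three (n := 3) hij hjl hil ha0
  exact bal_of_torus ψ hψ hc hCL hij hjl hil D (a ^ 3) ha3 h1 h4 t u A B A' B' hA hB hA' hB'

/-- [A11] central extensions of `SL_n(K)` split -/
theorem exists_section_SL [Finite K] (hn : 3 ≤ n)
    (h3 : n = 3 → ∃ a : K, a ≠ 0 ∧ a ^ 3 ≠ 1) (h4 : n = 4 → ∃ a : K, a ≠ 0 ∧ a ≠ 1)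
    (ψ : E →* SpecialLinearGroup (Fin n) K) (hψ : Function.Surjective ψ)
    (hc : ψ.ker ≤ Subgroup.center E) :
    ∃ τ : SpecialLinearGroup (Fin n) K →* E, ψ.comp τ = MonoidHom.id _ := by
  have key : CommLift ψ ∧ Bal ψ := by
    rcases Nat.lt_or_ge n 4 with h | h
    · have h3' : n = 3 := by omega
      subst h3'
      have hCL := commLift_three ψ hψ hc (h3 rfl)
      exact ⟨hCL, bal_three ψ hψ hc (h3 rfl) hCL⟩
    · have hCL : CommLift ψ := by
        rcases Nat.lt_or_ge n 5 with h' | h'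
        · exact commLift_four h ψ hψ hc (h4 (by omega))
        · exact commLift_five h' ψ hψ hc
      exact ⟨hCL, bal_of_commLift h ψ hψ hc hCL⟩
  obtain ⟨y, hy, hadd, hcomm, hcomm3⟩ := exists_lifts_of_commLift_bal hn ψ hψ hc key.1 key.2
  exact exists_section_of_lifts hn ψ y hy hadd hcomm hcomm3

end Cfsg.Agent.Lib.Helper25.SLCC
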